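import Mathlib
import Groth.Agent.Lib.Helper4.QuotFlat
import Groth.Agent.Lib.Helper16.StalkPB

/-!
# Flatness at a point: composition, descent and base change
-/

set_option autoImplicit false
universe u

open CategoryTheory AlgebraicGeometry Limits

namespace Groth.Agent.Lib.Helper24.PtFlat

open Groth.Agent.Lib.Helper16.StalkPB

variable {X Y Z : Scheme.{u}}

theorem flat_stalkMap_of_eq {f g : X ⟶ Y} (e : f = g) (x : X) (h : (g.stalkMap x).hom.Flat) :
    (f.stalkMap x).hom.Flat := by
  subst e; exact h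

theorem flat_stalkMap_of_eq_point (f : X ⟶ Y) {x x' : X} (e : x = x')
    (h : (f.stalkMap x).hom.Flat) : (f.stalkMap x').hom.Flat := by
  subst e; exact h

theorem flat_stalkMap_comp (f : X ⟶ Y) (g : Y ⟶ Z) (x : X) (hf : (f.stalkMap x).hom.Flat)
    (hg : (g.stalkMap (f.base x)).hom.Flat) : ((f ≫ g).stalkMap x).hom.Flat := by
  rw [Scheme.Hom.stalkMap_comp]
  exact RingHom.Flat.comp hg hf

/-- descent of flatness at a point along a morphism which is flat at that point -/
theorem flat_stalkMap_of_comp (f : X ⟶ Y) (g : Y ⟶ Z) (x : X) (hf : (f.stalkMap x).hom.Flat)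
    (h : ((f ≫ g).stalkMap x).hom.Flat) : (g.stalkMap (f.base x)).hom.Flat := by
  rw [Scheme.Hom.stalkMap_comp] at h
  have h3 : (f.stalkMap x).hom.FaithfullyFlat := by
    algebraize [(f.stalkMap x).hom]
    exact @Module.FaithfullyFlat.of_flat_of_isLocalHom _ _ _ _ _ _ _ hf (f.toLRSHom.prop x)
  exact RingHom.Flat.of_comp_faithfullyFlat h3 h

/-- a morphism flat at `x` becomes flat after restriction to the local scheme at `x` -/
theorem flat_fromSpecStalk_comp (f : X ⟶ Y) (x : X) (h : (f.stalkMap x).hom.Flat) :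
    Flat (X.fromSpecStalk x ≫ f) := by
  rw [← Scheme.SpecMap_stalkMap_fromSpecStalk]
  haveI : Flat (Spec.map (f.stalkMap x)) := Flat.SpecMap_iff.2 h
  infer_instance

/-- **Base change of flatness at a point.** -/
theorem flat_stalkMap_baseChange {P X' : Scheme.{u}} {p : P ⟶ Y} {q : P ⟶ X'} {f : Y ⟶ X}
    {g : X' ⟶ X} (sq : IsPullback p q f g) (y' : P) (h : (f.stalkMap (p.base y')).hom.Flat) :
    (q.stalkMap y').hom.Flat := by
  set y : Y := p.base y' with hy
  let j : Spec (Y.presheaf.stalk y) ⟶ Y := Y.fromSpecStalk y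
  haveI hF : Flat (j ≫ f) := flat_fromSpecStalk_comp f y h
  let ι' : pullback (j ≫ f) g ⟶ P :=
    sq.lift (pullback.fst (j ≫ f) g ≫ j) (pullback.snd (j ≫ f) g)
      (by rw [Category.assoc, pullback.condition])
  have hι'q : ι' ≫ q = pullback.snd (j ≫ f) g := sq.lift_snd _ _ _
  have hι'p : ι' ≫ p = pullback.fst (j ≫ f) g ≫ j := sq.lift_fst _ _ _
  have hleft : IsPullback ι' (pullback.fst (j ≫ f) g) p j := by
    refine IsPullback.of_right (h₁₂ := q) (h₂₂ := f) (v₁₃ := g) ?_ hι'p sq.flip
    rw [hι'q]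
    exact (IsPullback.of_hasPullback (j ≫ f) g).flip
  haveI : Flat ι' := MorphismProperty.of_isPullback (P := @Flat) hleft.flip inferInstance
  -- a point of the pullback over `y'`
  let c : ↥(Spec (Y.presheaf.stalk y)) := IsLocalRing.closedPoint (Y.presheaf.stalk y)
  have hc : j.base c = p.base y' := Scheme.fromSpecStalk_closedPoint
  obtain ⟨z, hz1, hz2⟩ := Scheme.Pullback.exists_preimage_pullback (f := p) (g := j) y' c hc.symm
  let p₂ : ↥(pullback (j ≫ f) g) := hleft.isoPullback.inv.base z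
  have hp₂ : ι'.base p₂ = y' := by
    change ι'.base (hleft.isoPullback.inv.base z) = y'
    rw [← Scheme.Hom.comp_apply, hleft.isoPullback_inv_fst]
    exact hz1
  have h1 : ((ι' ≫ q).stalkMap p₂).hom.Flat :=
    flat_stalkMap_of_eq hι'q p₂ (Flat.stalkMap _ p₂)
  have h2 := flat_stalkMap_of_comp ι' q p₂ (Flat.stalkMap ι' p₂) h1
  exact flat_stalkMap_of_eq_point q hp₂ h2

end Groth.Agent.Lib.Helper24.PtFlat
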