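import Mathlib
import Groth.Agent.Lib.Helper24.PtFlat.Basic
import Groth.Agent.Lib.Helper24.Orbit.Stable
import Groth.Agent.Lib.Helper24.Orbit.HomAction

/-!
# Flatness of equivariant morphisms out of a flat group over a one-point base, from one point
-/

set_option autoImplicit false
universe u

open CategoryTheory MonoidalCategory CartesianMonoidalCategory MonObj GrpObj AlgebraicGeometry Limits

namespace Groth.Agent.Lib.Helper24.PtFlat

open Groth.Agent.Lib.Helper4 Groth.Agent.Lib.Helper4.ActShear Groth.Agent.Lib.Helper4.ActShear2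
  Groth.Agent.Lib.Helper4.MaxOpen Groth.Agent.Lib.Helper4.MaxOpenGrp
  Groth.Agent.Lib.Helper24.Homog Groth.Agent.Lib.Helper24.Orbit

variable {S : Scheme.{u}} {G X : Over S} [GrpObj G] (a : AlgGrp.Action G X)

/-- **Universal translation.** Over a base with a single point, an equivariant morphism from a flat
group which is flat at one point is flat. -/
theorem flat_of_flat_at_point [Subsingleton S] [Flat G.hom] (φ : G ⟶ X)
    (hφ : (G ◁ φ) ≫ a.act = (selfAct G).act ≫ φ) (h₀ : G.left)
    (hflat : (φ.left.stalkMap h₀).hom.Flat) : Flat φ.left := by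
  rw [Flat.iff_flat_stalkMap]
  intro h
  -- a point `w` of `G × G` with second projection `h₀` and product `h`
  have hS : G.hom.base h = G.hom.base h₀ := Subsingleton.elim _ _
  obtain ⟨w₁, hw₁1, hw₁2⟩ := Scheme.Pullback.exists_preimage_pullback (f := G.hom) (g := G.hom)
    h h₀ hS
  let ρ : G ⊗ G ⟶ G ⊗ G := lift (fst G G * (snd G G)⁻¹) (snd G G)
  have hρsnd : ρ ≫ snd G G = snd G G := lift_snd _ _
  have hρμ : ρ ≫ μ[G] = fst G G := by
    change lift (fst G G * (snd G G)⁻¹) (snd G G) ≫ μ[G] = fst G G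
    rw [← Hom.mul_def, inv_mul_cancel_right]
  let w : (G ⊗ G).left := ρ.left.base w₁
  have hwsnd : (snd G G).left.base w = h₀ := by
    change (ρ ≫ snd G G).left.base w₁ = h₀
    rw [hρsnd]
    exact hw₁2
  have hwμ : μ[G].left.base w = h := by
    change (ρ ≫ μ[G]).left.base w₁ = h
    rw [hρμ]
    exact hw₁1
  -- `G ◁ φ` is flat at `w`
  let ψ : G ⊗ G ⟶ G ⊗ X := G ◁ φ
  have hsq : IsPullback (snd G G).left ψ.left φ.left (snd G X).left :=
    (isPullback_whiskerLeft G G X φ).flip
  have hψw : (ψ.left.stalkMap w).hom.Flat :=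
    flat_stalkMap_baseChange hsq w (flat_stalkMap_of_eq_point φ.left hwsnd.symm hflat)
  -- translate
  let σ : G ⊗ G ⟶ G ⊗ G := shear (selfAct G)
  let τ : G ⊗ X ⟶ G ⊗ X := shear a
  have hστ : σ ≫ ψ = ψ ≫ τ := shear_whisker (selfAct G) a φ hφ
  haveI : IsIso σ := ⟨shearInv (selfAct G), shear_shearInv _, shearInv_shear _⟩
  haveI : IsIso τ := ⟨shearInv a, shear_shearInv _, shearInv_shear _⟩
  haveI : IsIso σ.left := inferInstanceAs (IsIso ((Over.forget S).map σ))
  haveI : IsIso τ.left := inferInstanceAs (IsIso ((Over.forget S).map τ))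
  have h1 : ((σ.left ≫ ψ.left).stalkMap w).hom.Flat := by
    have e : σ.left ≫ ψ.left = ψ.left ≫ τ.left := by
      rw [← Over.comp_left, ← Over.comp_left, hστ]
    exact flat_stalkMap_of_eq e w
      (flat_stalkMap_comp ψ.left τ.left w hψw (Flat.stalkMap τ.left _))
  have hψv : (ψ.left.stalkMap (σ.left.base w)).hom.Flat :=
    flat_stalkMap_of_comp σ.left ψ.left w (Flat.stalkMap σ.left w) h1
  -- descend along the second projection
  haveI : Flat (snd G X).left := inferInstanceAs (Flat (pullback.snd G.hom X.hom))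
  haveI : Flat (snd G G).left := inferInstanceAs (Flat (pullback.snd G.hom G.hom))
  have h2 : (((snd G G).left ≫ φ.left).stalkMap (σ.left.base w)).hom.Flat := by
    have e : (snd G G).left ≫ φ.left = ψ.left ≫ (snd G X).left := by
      rw [← Over.comp_left, ← Over.comp_left, whiskerLeft_snd]
    exact flat_stalkMap_of_eq e _
      (flat_stalkMap_comp ψ.left (snd G X).left _ hψv (Flat.stalkMap (snd G X).left _))
  have h3 := flat_stalkMap_of_comp (snd G G).left φ.left (σ.left.base w)
    (Flat.stalkMap (snd G G).left _) h2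
  have hv : (snd G G).left.base (σ.left.base w) = h := by
    change (σ ≫ snd G G).left.base w = h
    rw [shear_snd]
    exact hwμ
  exact flat_stalkMap_of_eq_point φ.left hv h3

/-- orbit maps -/
theorem flat_orbitMap_of_flat_at_point [Subsingleton S] [Flat G.hom] (o : 𝟙_ (Over S) ⟶ X)
    (h₀ : G.left) (hflat : ((a.orbitMap o).left.stalkMap h₀).hom.Flat) :
    Flat (a.orbitMap o).left :=
  flat_of_flat_at_point a (a.orbitMap o) (orbitMap_equivariant a o) h₀ hflat

/-- homomorphisms -/
theorem flat_hom_of_flat_at_point [Subsingleton S] [Flat G.hom] {H : Over S} [GrpObj H]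
    (u : G ⟶ H) [IsMonHom u] (h₀ : G.left) (hflat : (u.left.stalkMap h₀).hom.Flat) :
    Flat u.left := by
  refine flat_of_flat_at_point (restrictHom u (selfAct H)) u ?_ h₀ hflat
  change (G ◁ u) ≫ (u ▷ H) ≫ μ[H] = μ[G] ≫ u
  rw [← Category.assoc, ← MonoidalCategory.tensorHom_def', IsMonHom.mul_hom]

theorem subsingleton_spec_of_artinian_local (A : Type u) [CommRing A] [IsArtinianRing A]
    [IsLocalRing A] : Subsingleton ↥(Spec (CommRingCat.of A)) := by
  constructor
  intro p q
  apply PrimeSpectrum.ext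
  haveI := p.isPrime
  haveI := q.isPrime
  have hp : p.asIdeal.IsMaximal := inferInstance
  have hq : q.asIdeal.IsMaximal := inferInstance
  rw [IsLocalRing.eq_maximalIdeal hp, IsLocalRing.eq_maximalIdeal hq]

end Groth.Agent.Lib.Helper24.PtFlat
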